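import Cfsg.Agent.Lib.SporMisc.PlaneFour
import Cfsg.Agent.Lib.SuzType.Plane.Data

/-!
The plane of order four on 21 points and the list of its 315 elations:
an involutive automorphism fixing a line pointwise is in the list.
-/

set_option autoImplicit false
set_option maxRecDepth 100000

namespace CfsgLib.SuzType.Plane

open Finset
open CfsgLib.SporMisc.PlaneFour (IsPlane)

/-- The points of the `i`-th line. -/
def line (i : Fin 21) : Finset (Fin 21) := (dset.map fun d => Fin.ofNat 21 (i.val + d)).toFinset

/-- The lines. -/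
def lines : Set (Finset (Fin 21)) := Set.range line

/-- The line joining two points, by numbers. -/
def join (a b : ℕ) : ℕ := (a + 21 - dfst.getD ((a + 21 - b) % 21) 0) % 21

/-- The common point of two lines, by numbers. -/
def meet (i j : ℕ) : ℕ := (i + dfst.getD ((j + 21 - i) % 21) 0) % 21

theorem join_spec : ∀ a b : Fin 21, a ≠ b →
    a ∈ line (Fin.ofNat 21 (join a b)) ∧ b ∈ line (Fin.ofNat 21 (join a b)) := by decide +kernel

theorem join_uniq : ∀ a b i : Fin 21, a ≠ b → a ∈ line i → b ∈ line i → i.val = join a b := by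
  decide +kernel

theorem meet_spec : ∀ i j : Fin 21, i ≠ j →
    Fin.ofNat 21 (meet i j) ∈ line i ∧ Fin.ofNat 21 (meet i j) ∈ line j := by decide +kernel

theorem meet_uniq : ∀ i j a : Fin 21, i ≠ j → a ∈ line i → a ∈ line j → a.val = meet i j := by
  decide +kernel

theorem line_card : ∀ i : Fin 21, (line i).card = 5 := by decide +kernel

theorem isPlane : IsPlane lines := by
  refine ⟨by simp, fun b hb => by obtain ⟨i, rfl⟩ := hb; exact line_card i, fun s hs => ?_⟩
  obtain ⟨a, b, hab, rfl⟩ := card_eq_two.1 hs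
  refine ⟨line (Fin.ofNat 21 (join a b)), ⟨⟨_, rfl⟩, ?_⟩, ?_⟩
  · intro x hx
    simp only [mem_insert, mem_singleton] at hx
    rcases hx with rfl | rfl
    · exact (join_spec _ b hab).1
    · exact (join_spec a _ hab).2
  · rintro _ ⟨⟨i, rfl⟩, hi⟩
    have h := join_uniq a b i hab (hi (mem_insert_self _ _))
      (hi (mem_insert_of_mem (mem_singleton_self _)))
    rw [← h, Fin.ofNat_val_eq_self]

/-- An automorphism of the plane. -/
def IsAut (f : Equiv.Perm (Fin 21)) : Prop := ∀ i, ∃ j, (line i).image f = line j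

/-- One step: the meet of two joins. -/
def step (v : List ℕ) : List ℕ → List ℕ
  | [p, a, b, c, d] => v.set p (meet (join (v.getD a 0) (v.getD b 0)) (join (v.getD c 0) (v.getD d 0)))
  | _ => v

/-- The permutation determined by the images of the two points off the `l`-th line. -/
def rebuild (l : Fin 21) (v1 v2 : ℕ) : List ℕ :=
  let s := scheme.getD l.val (0, 0, [])
  s.2.2.foldl step (((List.range 21).set s.1 v1).set s.2.1 v2)

/-- The known points after a step. -/
def stepKnown : List ℕ → List ℕ → List ℕ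
  | K, [p, _, _, _, _] => p :: K
  | K, _ => K

/-- Whether a step only uses known points and is geometrically valid. -/
def stepOk : List ℕ → List ℕ → Bool
  | K, [p, a, b, c, d] => decide (p < 21) && decide (a < 21) && decide (b < 21) && decide (c < 21) &&
      decide (d < 21) && K.contains a && K.contains b && K.contains c && K.contains d && decide (a ≠ b) &&
      decide (c ≠ d) && decide (join a b ≠ join c d) && decide (p = meet (join a b) (join c d))
  | _, _ => false

/-- Whether a list of steps is valid from a list of known points. -/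
def stepsOk : List ℕ → List (List ℕ) → Bool
  | K, [] => (List.range 21).all K.contains
  | K, s :: t => stepOk K s && stepsOk (stepKnown K s) t

/-- The points known at the start. -/
def start (l : Fin 21) : List ℕ :=
  let s := scheme.getD l.val (0, 0, [])
  s.1 :: s.2.1 :: dset.map fun d => (l.val + d) % 21

theorem scheme_ok : ∀ l : Fin 21,
    let s := scheme.getD l.val (0, 0, [])
    s.1 < 21 ∧ s.2.1 < 21 ∧ s.1 ≠ s.2.1 ∧ stepsOk (start l) s.2.2 = true ∧
      Fin.ofNat 21 s.1 ∉ line l ∧ Fin.ofNat 21 s.2.1 ∉ line l := by decide +kernel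

/-- A value list agrees with a permutation on the known points. -/
def Agree (f : Equiv.Perm (Fin 21)) (K v : List ℕ) : Prop :=
  v.length = 21 ∧ ∀ x : Fin 21, x.val ∈ K → v.getD x.val 0 = (f x).val

variable {f : Equiv.Perm (Fin 21)}

theorem aut_join (hf : IsAut f) {a b : Fin 21} (hab : a ≠ b) :
    ∃ i : Fin 21, i.val = join (f a) (f b) ∧ (line (Fin.ofNat 21 (join a b))).image f = line i := by
  obtain ⟨j, hj⟩ := hf (Fin.ofNat 21 (join a b))
  exact ⟨j, join_uniq _ _ j (f.injective.ne hab) (hj ▸ mem_image_of_mem f (join_spec a b hab).1)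
    (hj ▸ mem_image_of_mem f (join_spec a b hab).2), hj⟩

theorem aut_meet_join (hf : IsAut f) {p a b c d : Fin 21} (hab : a ≠ b) (hcd : c ≠ d)
    (hne : join a b ≠ join c d) (hp : p.val = meet (join a b) (join c d)) :
    (f p).val = meet (join (f a) (f b)) (join (f c) (f d)) := by
  obtain ⟨i, hi, hI⟩ := aut_join hf hab
  obtain ⟨j, hj, hJ⟩ := aut_join hf hcd
  have h1 : join a.val b.val < 21 := Nat.mod_lt _ (by norm_num)
  have h2 : join c.val d.val < 21 := Nat.mod_lt _ (by norm_num)
  have hne' : (Fin.ofNat 21 (join a b)) ≠ Fin.ofNat 21 (join c d) := fun e => hne (by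
    have := congrArg Fin.val e
    simpa [Nat.mod_eq_of_lt h1, Nat.mod_eq_of_lt h2] using this)
  have hm := meet_spec _ _ hne'
  have hpe : p = Fin.ofNat 21 (meet (Fin.ofNat 21 (join a b)).val (Fin.ofNat 21 (join c d)).val) := by
    refine Fin.ext ?_
    simp only [Fin.val_ofNat, Nat.mod_eq_of_lt h1, Nat.mod_eq_of_lt h2]
    rw [Nat.mod_eq_of_lt (by rw [← hp]; exact p.2), hp]
  rw [← hpe] at hm
  rw [← hi, ← hj]
  refine meet_uniq i j (f p) (fun e => hne' ?_) (hI ▸ mem_image_of_mem f hm.1) (hJ ▸ mem_image_of_mem f hm.2)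
  by_contra h
  have h3 : line (Fin.ofNat 21 (join a b)) = line (Fin.ofNat 21 (join c d)) :=
    image_injective f.injective (by rw [hI, hJ, e])
  refine hab ?_
  obtain ⟨ha, hb⟩ := join_spec a b hab
  exact Fin.ext ((meet_uniq _ _ a h ha (h3 ▸ ha)).trans (meet_uniq _ _ b h hb (h3 ▸ hb)).symm)

theorem agree_step (hf : IsAut f) {K v s : List ℕ} (hv : Agree f K v) (hs : stepOk K s = true) :
    Agree f (stepKnown K s) (step v s) := by
  match s, hs with
  | [p, a, b, c, d], hs =>
    simp only [stepOk, Bool.and_eq_true, decide_eq_true_eq, List.contains_iff_mem] at hs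
    obtain ⟨⟨⟨⟨⟨⟨⟨⟨⟨⟨⟨⟨hp21, ha⟩, hb⟩, hc⟩, hd⟩, haK⟩, hbK⟩, hcK⟩, hdK⟩, hab⟩, hcd⟩, hne⟩, hp⟩ := hs
    obtain ⟨hlen, hag⟩ := hv
    refine ⟨by simp [step, hlen], fun x hx => ?_⟩
    simp only [step]
    by_cases hxp : x.val = p
    · subst hxp
      have h := aut_meet_join hf (p := x) (a := ⟨a, ha⟩) (b := ⟨b, hb⟩) (c := ⟨c, hc⟩) (d := ⟨d, hd⟩)
        (by simpa [Fin.ext_iff] using hab) (by simpa [Fin.ext_iff] using hcd) hne hp
      rw [← hag ⟨a, ha⟩ haK, ← hag ⟨b, hb⟩ hbK, ← hag ⟨c, hc⟩ hcK, ← hag ⟨d, hd⟩ hdK] at h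
      rw [List.getD_eq_getElem _ _ (by simp [hlen]), List.getElem_set_self]
      exact h.symm
    · simp only [stepKnown, List.mem_cons] at hx
      rw [← hag x (hx.resolve_left hxp)]
      simp [List.getD_eq_getElem?_getD, List.getElem?_set_ne (Ne.symm hxp)]

theorem agree_fold (hf : IsAut f) : ∀ (st : List (List ℕ)) (K v : List ℕ), Agree f K v →
    stepsOk K st = true → ∀ x : Fin 21, (st.foldl step v).getD x.val 0 = (f x).val
  | [], K, v, hv, h, x => by
    simp only [stepsOk, List.all_eq_true, List.contains_iff_mem, List.mem_range] at h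
    exact hv.2 x (h x.val x.2)
  | s :: t, K, v, hv, h, x => by
    simp only [stepsOk, Bool.and_eq_true] at h
    exact agree_fold hf t _ _ (agree_step hf hv h.1) h.2 x

theorem rebuild_eq (hf : IsAut f) {l : Fin 21} (hl : ∀ x ∈ line l, f x = x) (x : Fin 21) :
    (rebuild l (f (Fin.ofNat 21 (scheme.getD l.val (0, 0, [])).1)).val
      (f (Fin.ofNat 21 (scheme.getD l.val (0, 0, [])).2.1)).val).getD x.val 0 = (f x).val := by
  obtain ⟨h1, h2, h12, hok, -, -⟩ := scheme_ok l
  unfold rebuild
  simp only []
  refine agree_fold hf _ _ _ ⟨by simp, fun y hy => ?_⟩ hok x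
  set s := scheme.getD l.val (0, 0, [])
  by_cases e2 : y.val = s.2.1
  · rw [List.getD_eq_getElem _ _ (by simp), List.getElem_set, if_pos e2.symm]
    congr 2; exact Fin.ext (by simp [Nat.mod_eq_of_lt h2, e2])
  by_cases e1 : y.val = s.1
  · rw [List.getD_eq_getElem _ _ (by simp), List.getElem_set, if_neg (Ne.symm e2), List.getElem_set,
      if_pos e1.symm]
    congr 2; exact Fin.ext (by simp [Nat.mod_eq_of_lt h1, e1])
  simp only [start, List.mem_cons, List.mem_map] at hy
  rcases hy with e | e | ⟨d, hd, e⟩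
  · exact absurd e e1
  · exact absurd e e2
  rw [List.getD_eq_getElem _ _ (by simp), List.getElem_set, if_neg (Ne.symm e2), List.getElem_set,
    if_neg (Ne.symm e1), List.getElem_range]
  rw [hl y (List.mem_toFinset.2 (List.mem_map.2 ⟨d, hd, Fin.ext (by simp [e])⟩))]

/-- The code of a value list. -/
def code : List ℕ → ℕ
  | [] => 0
  | v :: t => v + 32 * code t

/-- The `i`-th elation as a function. -/
def elf (i : Fin 315) (x : Fin 21) : Fin 21 :=
  Fin.ofNat 21 (ecodes.getD i.val 0 / 32 ^ x.val % 32)

theorem elf_invol : ∀ i : Fin 315, ∀ x : Fin 21, elf i (elf i x) = x := by decide +kernel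

theorem ecodes_length : ecodes.length = 315 := by decide +kernel

/-- The `i`-th elation. -/
def elat (i : Fin 315) : Equiv.Perm (Fin 21) := Function.Involutive.toPerm (elf i) (elf_invol i)

/-- Whether a list is not an involution or is an elation in the table. -/
def candOk (v : List ℕ) : Bool :=
  !((List.range 21).all fun x => v.getD (v.getD x 0) 0 == x) || (List.range 21).all (fun x => v.getD x 0 == x) ||
    ((List.range 21).all (fun x => decide (v.getD x 0 < 21)) && ecodes.contains (code v))

/-- The check for one line. -/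
def lineCheck (l : Fin 21) : Bool :=
  (List.finRange 21).all fun a => (List.finRange 21).all fun b =>
    decide (a ∈ line l) || decide (b ∈ line l) || decide (a = b) || candOk (rebuild l a.val b.val)

theorem lineCheck_true : ∀ l, lineCheck l = true := by decide +kernel

theorem rebuild_length (l : Fin 21) (a b : ℕ) : (rebuild l a b).length = 21 := by
  have : ∀ (st : List (List ℕ)) (v : List ℕ), (st.foldl step v).length = v.length := by
    intro st
    induction st with
    | nil => intro v; rfl
    | cons s t ih =>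
      intro v
      rw [List.foldl_cons, ih]
      unfold step
      split <;> simp
  simp [rebuild, this]

theorem code_digit : ∀ (v : List ℕ), (∀ x ∈ v, x < 32) → ∀ k, k < v.length → code v / 32 ^ k % 32 = v.getD k 0
  | [], _, k, hk => absurd hk (Nat.not_lt_zero k)
  | a :: t, h, 0, _ => by
    have := h a (by simp)
    simp [code]
    omega
  | a :: t, h, k + 1, hk => by
    have ha := h a (by simp)
    rw [pow_succ', ← Nat.div_div_eq_div_mul, show code (a :: t) / 32 = code t by simp [code]; omega,
      code_digit t (fun x hx => h x (by simp [hx])) k (by simpa using hk)]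
    simp

/-- An involutive automorphism fixing a line pointwise is one of the listed elations. -/
theorem eq_elat (hf : IsAut f) (h2 : ∀ x, f (f x) = x) (h1 : f ≠ 1) {l : Fin 21}
    (hl : ∀ x ∈ line l, f x = x) : ∃ i, f = elat i := by
  obtain ⟨b1, b2, h12, -, hq1, hq2⟩ := scheme_ok l
  set q1 := Fin.ofNat 21 (scheme.getD l.val (0, 0, [])).1
  set q2 := Fin.ofNat 21 (scheme.getD l.val (0, 0, [])).2.1
  have hoff : ∀ q, q ∉ line l → f q ∉ line l := fun q hq h => hq (by rw [← h2 q, hl _ h]; exact h)
  have hne : f q1 ≠ f q2 := f.injective.ne fun e => h12 (by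
    have := congrArg Fin.val e
    simp only [q1, q2, Fin.val_ofNat] at this
    rwa [Nat.mod_eq_of_lt b1, Nat.mod_eq_of_lt b2] at this)
  set v := rebuild l (f q1).val (f q2).val with hvdef
  have hv : ∀ x : Fin 21, v.getD x.val 0 = (f x).val := rebuild_eq hf hl
  have hc := lineCheck_true l
  simp only [lineCheck, List.all_eq_true, List.mem_finRange, true_implies, Bool.or_eq_true, decide_eq_true_eq] at hc
  have hc' : candOk v = true := by
    rcases hc (f q1) (f q2) with ((h | h) | h) | h
    · exact absurd h (hoff _ hq1)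
    · exact absurd h (hoff _ hq2)
    · exact absurd h hne
    · exact h
  simp only [candOk, Bool.or_eq_true, Bool.not_eq_true', Bool.and_eq_true] at hc'
  rcases hc' with (h | h) | ⟨-, h⟩
  · refine absurd h ?_
    rw [Bool.not_eq_false, List.all_eq_true]
    intro x hx
    have hx' := List.mem_range.1 hx
    rw [hv ⟨x, hx'⟩, hv (f ⟨x, hx'⟩), h2]
    simp
  · refine absurd (Equiv.ext fun x => Fin.ext ?_) h1
    have := (List.all_eq_true.1 h) x.val (List.mem_range.2 x.2)
    rw [hv x, beq_iff_eq] at this
    simpa using this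
  · obtain ⟨i, hi, e⟩ := List.getElem_of_mem (List.contains_iff_mem.1 h)
    have hlen : v.length = 21 := rebuild_length _ _ _
    refine ⟨⟨i, by rwa [ecodes_length] at hi⟩, Equiv.ext fun x => Fin.ext ?_⟩
    show (f x).val = (elf ⟨i, _⟩ x).val
    simp only [elf, Fin.val_ofNat]
    rw [List.getD_eq_getElem _ _ hi, e, code_digit v (fun y hy => ?_) x.val (by rw [hlen]; exact x.2), hv,
      Nat.mod_eq_of_lt (f x).2]
    obtain ⟨k, hk, rfl⟩ := List.getElem_of_mem hy
    have hk' : k < 21 := hlen ▸ hk
    rw [← List.getD_eq_getElem _ 0 hk, hv ⟨k, hk'⟩]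
    exact (f ⟨k, hk'⟩).2.trans (by norm_num)

end CfsgLib.SuzType.Plane
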