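import Cfsg.Agent.Lib.SuzType.Local.CitCount

/-!
The incidence of the conjugates of the two elementary subgroups of order 16:
they are the points and lines of a plane of order four.
-/

set_option autoImplicit false
set_option linter.unusedSectionVars false

namespace CfsgLib.SuzType

open Subgroup
open scoped Pointwise

namespace Plane

variable {X : Type*} [Group X]

/-- The image of a subgroup under conjugation. -/
def cj (g : X) (H : Subgroup X) : Subgroup X := H.map (MulAut.conj g).toMonoidHom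

theorem mem_cj {g x : X} {H : Subgroup X} : x ∈ cj g H ↔ g⁻¹ * x * g ∈ H := by
  rw [cj, Subgroup.mem_map]
  constructor
  · rintro ⟨y, hy, rfl⟩
    simpa [mul_assoc] using hy
  · intro h
    exact ⟨g⁻¹ * x * g, h, by simp [mul_assoc]⟩

theorem conj_ne_one (g : X) {x : X} (h : x ≠ 1) : g⁻¹ * x * g ≠ 1 := fun e => h (by
  calc x = g * (g⁻¹ * x * g) * g⁻¹ := by group
    _ = 1 := by rw [e, mul_one, mul_inv_cancel])

theorem conj_mem_cj {g x : X} {H : Subgroup X} (hx : x ∈ H) : g * x * g⁻¹ ∈ cj g H := by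
  rw [mem_cj]; simpa [mul_assoc] using hx

theorem cj_cj (g h : X) (H : Subgroup X) : cj g (cj h H) = cj (g * h) H := by
  ext x; simp [mem_cj, mul_assoc]

theorem cj_one (H : Subgroup X) : cj 1 H = H := by
  ext x; simp [mem_cj]

theorem cj_normalizer {g : X} {H : Subgroup X} (hg : g ∈ normalizer (H : Set X)) : cj g H = H := by
  ext x
  rw [mem_cj]
  have := (mem_normalizer_iff.1 hg (g⁻¹ * x * g))
  simpa [mul_assoc] using this

theorem normalizer_of_cj {g : X} {H : Subgroup X} (hg : cj g H = H) : g ∈ normalizer (H : Set X) := by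
  refine mem_normalizer_iff.2 fun x => ?_
  conv_rhs => rw [← hg, mem_cj]
  simp [mul_assoc]

/-- The conjugates of a subgroup. -/
abbrev Conjs (H : Subgroup X) : Type _ := {K : Subgroup X // ∃ g, cj g H = K}

/-- The conjugation action on the conjugates. -/
def mv {H : Subgroup X} (g : X) (K : Conjs H) : Conjs H :=
  ⟨cj g K.1, by obtain ⟨h, e⟩ := K.2; exact ⟨g * h, by rw [← e, cj_cj]⟩⟩

theorem card_conjs [Finite X] (H : Subgroup X) :
    Nat.card (Conjs H) * Nat.card (normalizer (H : Set X)) = Nat.card X := by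
  let f : X ⧸ normalizer (H : Set X) → Conjs H := fun q =>
    Quotient.liftOn' q (fun g => (⟨cj g H, g, rfl⟩ : Conjs H)) fun a b hab => by
      refine Subtype.ext ?_
      show cj a H = cj b H
      rw [QuotientGroup.leftRel_apply] at hab
      conv_lhs => rw [← cj_normalizer hab, cj_cj, mul_inv_cancel_left]
  have hf : Function.Bijective f := by
    constructor
    · intro p q
      refine QuotientGroup.induction_on p fun a => QuotientGroup.induction_on q fun b h => ?_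
      have h' : cj a H = cj b H := congrArg Subtype.val h
      rw [QuotientGroup.eq]
      refine normalizer_of_cj ?_
      rw [← cj_cj, ← h', cj_cj, inv_mul_cancel, cj_one]
    · rintro ⟨K, g, rfl⟩
      exact ⟨QuotientGroup.mk g, rfl⟩
  rw [← Nat.card_congr (Equiv.ofBijective f hf), ← Subgroup.card_eq_card_quotient_mul_card_subgroup]

end Plane

namespace Cit

open Plane

variable {X : Type*} [Group X] [Finite X] {z : X} {S A B : Subgroup X} (C : Cit z S A B)

include C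

theorem A_ne_B : A ≠ B := fun e => by
  have := C.cardE
  rw [e, inf_idem, C.cardB] at this
  omega

/-- A conjugate of `A` containing `z` is `A`. -/
theorem cj_eq_of_z {g : X} (h : z ∈ cj g A) : cj g A = A := by
  have ha := mem_cj.1 h
  obtain ⟨n, hn, e⟩ := C.trA _ ha (conj_ne_one g C.z1)
  have hs : g * n ∈ S := (mem_S_iff C).2 (by
    calc g * n * z = g * (n * z * n⁻¹) * n := by group
      _ = z * (g * n) := by rw [e]; group)
  have h1 := cj_normalizer (C.S_le_N hs)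
  rwa [← cj_cj, cj_normalizer hn] at h1

/-- Two conjugates of `A` with a common nontrivial element are equal. -/
theorem pt_unique {w : X} (hw : w ≠ 1) {P Q : Conjs A} (hP : w ∈ P.1) (hQ : w ∈ Q.1) : P = Q := by
  obtain ⟨P, g, rfl⟩ := P
  obtain ⟨Q, h, rfl⟩ := Q
  refine Subtype.ext ?_
  obtain ⟨n, hn, e⟩ := C.trA _ (mem_cj.1 hP) (conj_ne_one g hw)
  have hk : g * n * z * (g * n)⁻¹ = w := by
    calc g * n * z * (g * n)⁻¹ = g * (n * z * n⁻¹) * g⁻¹ := by group
      _ = w := by rw [e]; group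
  have h1 : z ∈ cj ((g * n)⁻¹ * h) A := by
    rw [← cj_cj, mem_cj, inv_inv, hk]; exact hQ
  have h2 := congrArg (cj (g * n)) (C.cj_eq_of_z h1)
  rw [cj_cj, mul_inv_cancel_left, ← cj_cj, cj_normalizer hn] at h2
  exact h2.symm

theorem ln_unique {w : X} (hw : w ≠ 1) {P Q : Conjs B} (hP : w ∈ P.1) (hQ : w ∈ Q.1) : P = Q :=
  C.swap.pt_unique hw hP hQ

theorem invol_A {P : Conjs A} {w : X} (hw : w ∈ P.1) : w * w = 1 := by
  obtain ⟨g, e⟩ := P.2
  rw [← e, mem_cj] at hw
  have h := C.sqA _ hw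
  have h' : g⁻¹ * (w * w) * g = 1 := by rw [← h]; group
  calc w * w = g * (g⁻¹ * (w * w) * g) * g⁻¹ := by group
    _ = 1 := by rw [h', mul_one, mul_inv_cancel]

/-- Every involution lies in a point and in a line. -/
theorem exists_pt_ln {w : X} (hw : w * w = 1) (h1 : w ≠ 1) :
    ∃ g : X, g * z * g⁻¹ = w ∧ w ∈ cj g A ∧ w ∈ cj g B := by
  obtain ⟨g, rfl⟩ := isConj_iff.1 (C.conj_all (orderOf_two'.2 ⟨hw, h1⟩))
  exact ⟨g, rfl, conj_mem_cj C.zA, conj_mem_cj C.zB⟩

/-- A flag is conjugate to the flag of `z`. -/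
theorem flag_conj {P : Conjs A} {l : Conjs B} {w : X} (hw : w ≠ 1) (hP : w ∈ P.1) (hl : w ∈ l.1) :
    ∃ g : X, cj g A = P.1 ∧ cj g B = l.1 ∧ g * z * g⁻¹ = w := by
  obtain ⟨g, e, hA, hB⟩ := C.exists_pt_ln (C.invol_A hP) hw
  exact ⟨g, congrArg Subtype.val (C.pt_unique hw (P := ⟨_, g, rfl⟩) hA hP),
    congrArg Subtype.val (C.ln_unique hw (P := ⟨_, g, rfl⟩) hB hl), e⟩

/-- A line through a point normalizes it. -/
theorem line_le_norm {P : Conjs A} {l : Conjs B} {w : X} (hw : w ≠ 1) (hP : w ∈ P.1) (hl : w ∈ l.1) :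
    l.1 ≤ normalizer (P.1 : Set X) := by
  obtain ⟨g, eA, eB, -⟩ := C.flag_conj hw hP hl
  intro x hx
  rw [← eB, mem_cj] at hx
  have h := cj_normalizer (C.S_le_N (C.BS hx))
  refine normalizer_of_cj ?_
  rw [← eA, cj_cj, show x * g = g * (g⁻¹ * x * g) by group, ← cj_cj, h]

/-- Incidence. -/
theorem incident_iff {P : Conjs A} {l : Conjs B} : P.1 ⊓ l.1 ≠ ⊥ ↔ ∃ w, w ≠ 1 ∧ w ∈ P.1 ∧ w ∈ l.1 := by
  rw [Subgroup.ne_bot_iff_exists_ne_one]
  exact ⟨fun ⟨w, hw⟩ => ⟨w, fun e => hw (Subtype.ext e), w.2.1, w.2.2⟩,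
    fun ⟨w, hw, h1, h2⟩ => ⟨⟨w, h1, h2⟩, fun e => hw (congrArg Subtype.val e)⟩⟩

theorem card_flag {P : Conjs A} {l : Conjs B} {w : X} (hw : w ≠ 1) (hP : w ∈ P.1) (hl : w ∈ l.1) :
    Nat.card ↥(P.1 ⊓ l.1) = 4 := by
  obtain ⟨g, eA, eB, -⟩ := C.flag_conj hw hP hl
  rw [← eA, ← eB, cj, cj, ← Subgroup.map_inf _ _ _ (MulAut.conj g).injective,
    ← Nat.card_congr (Subgroup.equivMapOfInjective (A ⊓ B) _ (MulAut.conj g).injective).toEquiv, C.cardE]

/-- Two points are on at most one line. -/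
theorem no_digon {P Q : Conjs A} {l m : Conjs B} (hPQ : P ≠ Q) (hlm : l ≠ m) (h1 : P.1 ⊓ l.1 ≠ ⊥)
    (h2 : P.1 ⊓ m.1 ≠ ⊥) (h3 : Q.1 ⊓ l.1 ≠ ⊥) (h4 : Q.1 ⊓ m.1 ≠ ⊥) : False := by
  obtain ⟨u, hu, huP, hul⟩ := C.incident_iff.1 h1
  obtain ⟨e, he, heP, hem⟩ := C.incident_iff.1 h2
  obtain ⟨w, hw, hwQ, hwl⟩ := C.incident_iff.1 h3
  obtain ⟨v, hv, hvQ, hvm⟩ := C.incident_iff.1 h4
  have hww := C.invol_A hwQ
  have hwi : w⁻¹ = w := inv_eq_of_mul_eq_one_right hww
  -- `w` normalizes the point `P` and the line `m`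
  have hwP : w ∈ normalizer (P.1 : Set X) := C.line_le_norm hu huP hul hwl
  have hwm : w ∈ normalizer (m.1 : Set X) := C.swap.line_le_norm hv hvm hvQ hwQ
  set e' := w * e * w⁻¹ with he'
  have e'P : e' ∈ P.1 := (mem_normalizer_iff.1 hwP e).1 heP
  have e'm : e' ∈ m.1 := (mem_normalizer_iff.1 hwm e).1 hem
  obtain ⟨f, hf, hfP, hfm, hfw⟩ : ∃ f, f ≠ 1 ∧ f ∈ P.1 ∧ f ∈ m.1 ∧ w * f = f * w := by
    by_cases hee : e' = e
    · exact ⟨e, he, heP, hem, mul_inv_eq_iff_eq_mul.1 hee⟩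
    · refine ⟨e * e', fun h => hee ?_, mul_mem heP e'P, mul_mem hem e'm, ?_⟩
      · rw [← inv_eq_of_mul_eq_one_right h, inv_eq_of_mul_eq_one_right (C.invol_A heP)]
      · obtain ⟨g, eg⟩ := P.2
        have hc : e' * e = e * e' := by
          have h5 : e * e' * (e * e') = 1 := C.invol_A (mul_mem heP e'P)
          rw [← inv_eq_of_mul_eq_one_right h5, mul_inv_rev, inv_eq_of_mul_eq_one_right (C.invol_A heP),
            inv_eq_of_mul_eq_one_right (C.invol_A e'P)]
        calc w * (e * e') = w * e * w⁻¹ * (w * w * e * w⁻¹) := by rw [he']; group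
          _ = e' * e * w := by rw [hww, he', hwi, one_mul]; group
          _ = e * e' * w := by rw [hc]
  -- conjugate the flag `(P, l)` to `(A, B)`
  obtain ⟨g, eA, eB, -⟩ := C.flag_conj hu huP hul
  have fA : g⁻¹ * f * g ∈ A := by rw [← mem_cj, eA]; exact hfP
  have wB : g⁻¹ * w * g ∈ B := by rw [← mem_cj, eB]; exact hwl
  have fB : g⁻¹ * f * g ∉ B := fun h => hlm (C.ln_unique hf (by rwa [← eB, mem_cj]) hfm)
  have := C.cA _ fA fB _ (C.BS wB) (by
    calc g⁻¹ * w * g * (g⁻¹ * f * g) = g⁻¹ * (w * f) * g := by group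
      _ = g⁻¹ * f * g * (g⁻¹ * w * g) := by rw [hfw]; group)
  exact hPQ (C.pt_unique hw (by rw [← eA, mem_cj]; exact this) hwQ)

theorem card_points : Nat.card (Conjs A) = 21 := by
  have h := Plane.card_conjs A
  rw [C.card_normA, C.main_count.1] at h
  omega

theorem pencil_card [Fintype (Conjs B)] (R : Conjs A)
    [DecidablePred fun l : Conjs B => R.1 ⊓ l.1 ≠ ⊥] :
    (Finset.univ.filter fun l : Conjs B => R.1 ⊓ l.1 ≠ ⊥).card = 5 := by
  classical
  haveI := Fintype.ofFinite X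
  have hcR : Nat.card R.1 = 16 := by
    obtain ⟨g, e⟩ := R.2
    rw [← e, cj, ← Nat.card_congr (Subgroup.equivMapOfInjective A _ (MulAut.conj g).injective).toEquiv, C.cardA]
  have h15 : (Finset.univ.filter fun w : X => w ∈ R.1 ∧ w ≠ 1).card = 15 := by
    rw [Finset.filter_and, Finset.filter_ne', Finset.inter_erase, Finset.inter_univ,
      Finset.card_erase_of_mem (by simp [one_mem])]
    rw [Nat.card_eq_fintype_card, Fintype.card_subtype] at hcR
    rw [hcR]
  have hL : ∀ w : X, w ∈ R.1 → w ≠ 1 → ∃ l : Conjs B, w ∈ l.1 := fun w hw h1 => by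
    obtain ⟨g, -, -, hB⟩ := C.exists_pt_ln (C.invol_A hw) h1
    exact ⟨⟨_, g, rfl⟩, hB⟩
  haveI : Nonempty (Conjs B) := ⟨⟨_, 1, rfl⟩⟩
  choose! lf hlf using hL
  have hfib : ∀ l ∈ (Finset.univ.filter fun l : Conjs B => R.1 ⊓ l.1 ≠ ⊥),
      ((Finset.univ.filter fun w : X => w ∈ R.1 ∧ w ≠ 1).filter fun w => lf w = l).card = 3 := by
    intro l hl
    obtain ⟨u, hu, huR, hul⟩ := C.incident_iff.1 (Finset.mem_filter.1 hl).2
    have he : ((Finset.univ.filter fun w : X => w ∈ R.1 ∧ w ≠ 1).filter fun w => lf w = l) =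
        (Finset.univ.filter fun w : X => w ∈ R.1 ⊓ l.1).erase 1 := by
      ext w
      simp only [Finset.mem_filter, Finset.mem_univ, true_and, Finset.mem_erase, mem_inf]
      constructor
      · rintro ⟨⟨hw, h1⟩, rfl⟩
        exact ⟨h1, hw, hlf w hw h1⟩
      · rintro ⟨h1, hw, hwl⟩
        exact ⟨⟨hw, h1⟩, C.ln_unique h1 (hlf w hw h1) hwl⟩
    have h4 := C.card_flag hu huR hul
    rw [Nat.card_eq_fintype_card, Fintype.card_subtype] at h4
    rw [he, Finset.card_erase_of_mem (by simp [one_mem]), h4]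
  have := Finset.card_eq_sum_card_fiberwise
    (s := Finset.univ.filter fun w : X => w ∈ R.1 ∧ w ≠ 1)
    (t := Finset.univ.filter fun l : Conjs B => R.1 ⊓ l.1 ≠ ⊥) (f := lf) (fun w hw => by
      have hw' : w ∈ R.1 ∧ w ≠ 1 := by simpa using hw
      simpa using C.incident_iff.2 ⟨w, hw'.2, hw'.1, hlf w hw'.1 hw'.2⟩)
  rw [h15, Finset.sum_const_nat hfib] at this
  omega

/-- The points and lines form a Steiner system. -/
theorem exists_line {P Q : Conjs A} (hPQ : P ≠ Q) :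
    ∃ l : Conjs B, P.1 ⊓ l.1 ≠ ⊥ ∧ Q.1 ⊓ l.1 ≠ ⊥ := by
  classical
  haveI := Fintype.ofFinite (Conjs A)
  haveI := Fintype.ofFinite (Conjs B)
  haveI := Fintype.ofFinite X
  have h5 : ∀ R : Conjs A, (Finset.univ.filter fun l : Conjs B => R.1 ⊓ l.1 ≠ ⊥).card = 5 :=
    fun R => C.pencil_card R
  have h5l : ∀ l : Conjs B, P.1 ⊓ l.1 ≠ ⊥ →
      ((Finset.univ.filter fun R : Conjs A => R.1 ⊓ l.1 ≠ ⊥).erase P).card = 4 := fun l hl => by
    rw [Finset.card_erase_of_mem (by simpa using hl)]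
    have key : ((Finset.univ.filter fun R : Conjs A => R.1 ⊓ l.1 ≠ ⊥)).card = 5 := by
      -- the dual count
      have hd : ∀ R : Conjs A, R.1 ⊓ l.1 ≠ ⊥ ↔ l.1 ⊓ R.1 ≠ ⊥ := fun R => by rw [inf_comm]
      simp only [hd]
      exact C.swap.pencil_card l
    rw [key]
  have hdisj : ((Finset.univ.filter fun l : Conjs B => P.1 ⊓ l.1 ≠ ⊥) : Set (Conjs B)).PairwiseDisjoint
      fun l => (Finset.univ.filter fun R : Conjs A => R.1 ⊓ l.1 ≠ ⊥).erase P := by
    intro l hl m hm hlm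
    rw [Function.onFun, Finset.disjoint_left]
    intro R hR hR'
    simp only [Finset.mem_erase, Finset.mem_filter, Finset.mem_univ, true_and] at hR hR'
    simp only [Finset.coe_filter, Finset.mem_univ, true_and, Set.mem_setOf_eq] at hl hm
    exact C.no_digon (Ne.symm hR.1) hlm hl hm hR.2 hR'.2
  have hall : (Finset.univ.filter fun l : Conjs B => P.1 ⊓ l.1 ≠ ⊥).biUnion
      (fun l => (Finset.univ.filter fun R : Conjs A => R.1 ⊓ l.1 ≠ ⊥).erase P) = Finset.univ.erase P := by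
    refine Finset.eq_of_subset_of_card_le (fun R hR => ?_) (le_of_eq ?_)
    · obtain ⟨l, -, hR⟩ := Finset.mem_biUnion.1 hR
      exact Finset.mem_erase.2 ⟨(Finset.mem_erase.1 hR).1, Finset.mem_univ _⟩
    · rw [Finset.card_biUnion hdisj, Finset.sum_const_nat (fun l hl => h5l l (Finset.mem_filter.1 hl).2),
        h5 P, Finset.card_erase_of_mem (Finset.mem_univ _), Finset.card_univ,
        ← Nat.card_eq_fintype_card, C.card_points]
  have hQ : Q ∈ Finset.univ.erase P := Finset.mem_erase.2 ⟨hPQ.symm, Finset.mem_univ _⟩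
  rw [← hall] at hQ
  obtain ⟨l, hl, hQl⟩ := Finset.mem_biUnion.1 hQ
  exact ⟨l, (Finset.mem_filter.1 hl).2, (Finset.mem_filter.1 (Finset.mem_erase.1 hQl).2).2⟩

end Cit

end CfsgLib.SuzType
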