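import Cfsg.Agent.Lib.SuzType.Plane.Incidence
import Cfsg.Agent.Lib.SuzType.Plane.Elations
import Cfsg.Agent.Lib.SporMisc.PlaneFourIso

/-!
A group with the involution centralizer of `L₃(4)` embeds in the permutations of the plane of order four,
its 315 involutions going onto the 315 elations.
-/

set_option autoImplicit false
set_option linter.unusedSectionVars false

namespace CfsgLib.SuzType

open Subgroup

namespace Plane

variable {X : Type*} [Group X]

theorem mv_one {H : Subgroup X} (K : Conjs H) : mv 1 K = K := Subtype.ext (cj_one K.1)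

theorem mv_mv {H : Subgroup X} (g h : X) (K : Conjs H) : mv g (mv h K) = mv (g * h) K :=
  Subtype.ext (cj_cj g h K.1)

/-- The conjugation action on the conjugates as a homomorphism. -/
def mvHom (H : Subgroup X) : X →* Equiv.Perm (Conjs H) where
  toFun g :=
    { toFun := mv g
      invFun := mv g⁻¹
      left_inv := fun K => by rw [mv_mv, inv_mul_cancel, mv_one]
      right_inv := fun K => by rw [mv_mv, mul_inv_cancel, mv_one] }
  map_one' := Equiv.ext mv_one
  map_mul' g h := Equiv.ext fun K => (mv_mv g h K).symm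

theorem mvHom_apply {H : Subgroup X} (g : X) (K : Conjs H) : mvHom H g K = mv g K := rfl

theorem mv_inf_ne_bot {H I : Subgroup X} (g : X) {P : Conjs H} {l : Conjs I} (h : P.1 ⊓ l.1 ≠ ⊥) :
    (mv g P).1 ⊓ (mv g l).1 ≠ ⊥ := by
  show cj g P.1 ⊓ cj g l.1 ≠ ⊥
  rw [cj, cj, ← Subgroup.map_inf _ _ _ (MulAut.conj g).injective]
  exact fun e => h ((Subgroup.map_eq_bot_iff_of_injective _ (MulAut.conj g).injective).1 e)

end Plane

namespace Cit

open Plane

variable {X : Type*} [Group X] [Finite X] {z : X} {S A B : Subgroup X} (C : Cit z S A B)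

include C

theorem kernel_trivial {g : X} (hg : ∀ P : Conjs A, mv g P = P) : g = 1 := by
  set K := (mvHom A).ker with hK
  have hgK : g ∈ K := Equiv.ext hg
  have hKN : ∀ k ∈ K, ∀ P : Conjs A, k ∈ normalizer (P.1 : Set X) := fun k hk P =>
    normalizer_of_cj (congrArg Subtype.val (DFunLike.congr_fun (show mvHom A k = 1 from hk) P))
  haveI : Fact (Nat.Prime 2) := ⟨Nat.prime_two⟩
  suffices hodd : ∀ k ∈ K, orderOf k ≠ 2 by
    have hA : ∀ k ∈ K, k * z = z * k := fun k hk => by
      have h1 : k * z * k⁻¹ * z⁻¹ ∈ A :=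
        mul_mem ((mem_normalizer_iff.1 (hKN k hk ⟨A, 1, cj_one A⟩) z).1 C.zA) (inv_mem C.zA)
      have h2 : k * z * k⁻¹ * z⁻¹ ∈ K := by
        have := mul_mem hk ((mvHom A).normal_ker.conj_mem _ (inv_mem hk) z)
        simpa [mul_assoc] using this
      by_contra hne
      exact hodd _ h2 (orderOf_two'.2 ⟨C.sqA _ h1, fun e => hne (by
        rw [mul_inv_eq_one, mul_inv_eq_iff_eq_mul] at e; exact e)⟩)
    by_contra hg1
    have hS := (mem_S_iff C).2 (hA g hgK)
    have h4 := C.pow_four hS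
    by_cases h2 : g * g = 1
    · exact hodd g hgK (orderOf_two'.2 ⟨h2, hg1⟩)
    · exact hodd (g * g) (mul_mem hgK hgK) (orderOf_two'.2 ⟨h4, h2⟩)
  intro k hk h2
  -- all involutions fix all points
  have hall : ∀ u : X, orderOf u = 2 → u ∈ K := fun u hu => by
    obtain ⟨h, e⟩ := isConj_iff.1 ((C.conj_all h2).symm.trans (C.conj_all hu))
    exact e ▸ (mvHom A).normal_ker.conj_mem _ hk h
  have hfix : ∀ P : Conjs A, P.1 = A := by
    intro P
    obtain ⟨h, eP⟩ := P.2
    -- `A` and `P` lie in a common Sylow subgroup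
    have hAP : P.1 ≤ normalizer (A : Set X) := fun u hu => by
      by_cases hu1 : u = 1
      · rw [hu1]; exact one_mem _
      · exact hKN u (hall u (orderOf_two'.2 ⟨C.invol_A hu, hu1⟩)) ⟨A, 1, cj_one A⟩
    have hpA : IsPGroup 2 A := IsPGroup.of_card (n := 4) (by rw [C.cardA]; norm_num)
    have hpP : IsPGroup 2 P.1 := by rw [← eP]; exact hpA.map _
    obtain ⟨T, hT⟩ := (hpA.to_sup_of_normal_left' hpP hAP).exists_le_sylow
    obtain ⟨T0, hT0⟩ := (IsPGroup.of_card (p := 2) (G := S) (n := 6) (by rw [C.cardS]; norm_num)).exists_le_sylow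
    have hTS : (T0 : Subgroup X) = S := (eq_of_le_of_card_ge hT0 (by rw [C.card_sylow, C.cardS])).symm
    obtain ⟨c, hc⟩ := MulAction.exists_smul_eq X T T0
    have hmem : ∀ {R : Conjs A}, R.1 ≤ (T : Subgroup X) → cj c R.1 = A := fun {R} hR => by
      have hsub : (mv c R).1 ≤ S := fun x hx => by
        rw [← hTS, ← hc, Sylow.coe_subgroup_smul]
        exact Subgroup.mem_pointwise_smul_iff_inv_smul_mem.2 (by simpa [MulAut.smul_def] using hR (mem_cj.1 hx))
      by_contra hne
      -- otherwise the conjugate lies in `B`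
      have hB : (mv c R).1 ≤ B := fun x hx => by
        by_cases hx1 : x = 1
        · rw [hx1]; exact one_mem _
        rcases C.invol_mem (hsub hx) (C.invol_A hx) with h | h
        · exact absurd (congrArg Subtype.val (C.pt_unique hx1 (Q := ⟨A, 1, cj_one A⟩) hx h)) hne
        · exact h
      have hcard : Nat.card (mv c R).1 = 16 := by
        obtain ⟨d, e⟩ := (mv c R).2
        rw [← e, cj, ← Nat.card_congr (Subgroup.equivMapOfInjective A _ (MulAut.conj d).injective).toEquiv, C.cardA]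
      have heq : (mv c R).1 = B := eq_of_le_of_card_ge hB (by rw [hcard, C.cardB])
      exact C.A_ne_B ((congrArg Subtype.val
        (C.pt_unique C.z1 (P := mv c R) (Q := ⟨A, 1, cj_one A⟩) (by rw [heq]; exact C.zB) C.zA)).symm.trans heq)
    have e1 := hmem (R := ⟨A, 1, cj_one A⟩) (le_sup_left.trans hT)
    have e2 := hmem (R := P) (le_sup_right.trans hT)
    exact (congrArg (cj c⁻¹) (e2.trans e1.symm)).trans (by rw [cj_cj, inv_mul_cancel, cj_one]) |>
      fun e => by rwa [cj_cj, inv_mul_cancel, cj_one] at e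
  have : Subsingleton (Conjs A) := ⟨fun P Q => Subtype.ext ((hfix P).trans (hfix Q).symm)⟩
  have h21 := C.card_points
  rw [Nat.card_eq_one_iff_unique.2 ⟨this, ⟨⟨A, 1, cj_one A⟩⟩⟩] at h21
  omega

theorem plane_incidence [Fintype (Conjs A)] [DecidableEq (Conjs A)]
    [DecidableRel fun (l : Conjs B) (P : Conjs A) => P.1 ⊓ l.1 ≠ ⊥] :
    SporMisc.PlaneFour.IsPlane
      (Set.range fun l : Conjs B => Finset.univ.filter fun P : Conjs A => P.1 ⊓ l.1 ≠ ⊥) := by
  classical
  refine ⟨by rw [← Nat.card_eq_fintype_card, C.card_points], ?_, fun s hs => ?_⟩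
  · rintro _ ⟨l, rfl⟩
    have hd : ∀ R : Conjs A, R.1 ⊓ l.1 ≠ ⊥ ↔ l.1 ⊓ R.1 ≠ ⊥ := fun R => by rw [inf_comm]
    simp only [hd]
    exact C.swap.pencil_card l
  · obtain ⟨P, Q, hPQ, rfl⟩ := Finset.card_eq_two.1 hs
    obtain ⟨l, hPl, hQl⟩ := C.exists_line hPQ
    refine ⟨_, ⟨⟨l, rfl⟩, by simp [Finset.insert_subset_iff, hPl, hQl]⟩, ?_⟩
    rintro _ ⟨⟨m, rfl⟩, hm⟩
    have hlm : l = m := by
      by_contra hne
      simp only [Finset.insert_subset_iff, Finset.singleton_subset_iff, Finset.mem_filter] at hm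
      exact C.no_digon hPQ hne hPl hm.1.2 hQl hm.2.2
    rw [hlm]

theorem exists_embedding :
    ∃ φ : X →* Equiv.Perm (Fin 21), Function.Injective φ ∧ φ z = elat 0 ∧
      (∀ w : X, orderOf w = 2 → ∃ i, φ w = elat i) ∧ ∀ i, ∃ w : X, orderOf w = 2 ∧ φ w = elat i := by
  classical
  haveI := Fintype.ofFinite (Conjs A)
  haveI := Fintype.ofFinite X
  obtain ⟨e, he⟩ := SporMisc.PlaneFour.planes_iso C.plane_incidence Plane.isPlane
  let inc : Conjs B → Finset (Conjs A) := fun l => Finset.univ.filter fun P : Conjs A => P.1 ⊓ l.1 ≠ ⊥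
  let ψ : X →* Equiv.Perm (Fin 21) := (e.permCongrHom : Equiv.Perm (Conjs A) ≃* Equiv.Perm (Fin 21)).toMonoidHom.comp (mvHom A)
  have hψ : ∀ g x, ψ g x = e (mv g (e.symm x)) := fun g x => rfl
  have hinj : Function.Injective ψ := by
    rw [injective_iff_map_eq_one]
    intro g hg
    refine C.kernel_trivial fun P => ?_
    have := hψ g (e P)
    rw [hg, Equiv.symm_apply_apply] at this
    exact e.injective this.symm
  have hline : ∀ i, ∃ l, (inc l).image e = line i := fun i => by
    have : line i ∈ (fun b => b.image e) '' Set.range inc := by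
      show line i ∈ (fun b : Finset (Conjs A) => b.image e) '' Set.range inc
      rw [he]; exact ⟨i, rfl⟩
    obtain ⟨_, ⟨l, rfl⟩, h⟩ := this
    exact ⟨l, h⟩
  have hline' : ∀ l, ∃ i, (inc l).image e = line i := fun l => by
    have : (inc l).image e ∈ Plane.lines := by
      rw [← he]; exact ⟨inc l, ⟨l, rfl⟩, rfl⟩
    obtain ⟨i, hi⟩ := this
    exact ⟨i, hi.symm⟩
  have haut : ∀ g, IsAut (ψ g) := fun g i => by
    obtain ⟨l, hl⟩ := hline i
    obtain ⟨j, hj⟩ := hline' (mv g l)
    refine ⟨j, ?_⟩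
    rw [← hl, ← hj, Finset.image_image]
    have hmap : inc (mv g l) = (inc l).image (mv g) := by
      ext P
      simp only [inc, Finset.mem_filter, Finset.mem_univ, true_and, Finset.mem_image]
      constructor
      · intro h
        refine ⟨mv g⁻¹ P, ?_, by rw [mv_mv, mul_inv_cancel, mv_one]⟩
        have := mv_inf_ne_bot g⁻¹ h
        rwa [mv_mv, inv_mul_cancel, mv_one] at this
      · rintro ⟨Q, hQ, rfl⟩
        exact mv_inf_ne_bot g hQ
    rw [hmap, Finset.image_image]
    refine Finset.image_congr fun P _ => ?_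
    simp [hψ]
  have hel : ∀ w : X, orderOf w = 2 → ∃ i, ψ w = elat i := fun w hw => by
    obtain ⟨hw2, hw1⟩ := orderOf_two'.1 hw
    obtain ⟨g, -, -, hB⟩ := C.exists_pt_ln hw2 hw1
    obtain ⟨i, hi⟩ := hline' ⟨_, g, rfl⟩
    refine eq_elat (haut w) (fun x => ?_) (fun e1 => hw1 (hinj (e1.trans (map_one ψ).symm))) (l := i) fun x hx => ?_
    · rw [← Equiv.Perm.mul_apply, ← map_mul, hw2, map_one, Equiv.Perm.one_apply]
    · rw [← hi, Finset.mem_image] at hx
      obtain ⟨P, hP, rfl⟩ := hx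
      obtain ⟨u, hu, huP, hul⟩ := C.incident_iff.1 (Finset.mem_filter.1 hP).2
      rw [hψ, Equiv.symm_apply_apply]
      exact congrArg e (Subtype.ext (cj_normalizer (C.line_le_norm hu huP hul hB)))
  choose! f hf using hel
  have hcard : Nat.card {w : X // orderOf w = 2} = 315 := by
    have := C.card_X
    rw [C.main_count.1] at this
    omega
  have hbij : Function.Bijective fun w : {w : X // orderOf w = 2} => f w.1 := by
    have hi : Function.Injective fun w : {w : X // orderOf w = 2} => f w.1 := fun a b hab =>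
      Subtype.ext (hinj (by rw [hf _ a.2, hf _ b.2]; exact congrArg elat hab))
    refine (Fintype.bijective_iff_injective_and_card _).2 ⟨hi, ?_⟩
    rw [← Nat.card_eq_fintype_card, hcard, Fintype.card_fin]
  obtain ⟨⟨w0, hw0⟩, e0⟩ := hbij.2 0
  obtain ⟨g, hg⟩ := isConj_iff.1 (C.conj_all hw0)
  refine ⟨ψ.comp (MulAut.conj g).toMonoidHom, hinj.comp (MulAut.conj g).injective, ?_, fun w hw => ?_, fun i => ?_⟩
  · show ψ (g * z * g⁻¹) = _
    rw [hg, hf _ hw0]; exact congrArg elat e0
  · exact ⟨_, hf (g * w * g⁻¹) (by rwa [conj_order_eq])⟩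
  · obtain ⟨⟨w, hw⟩, ew⟩ := hbij.2 i
    refine ⟨g⁻¹ * w * g⁻¹⁻¹, by rwa [conj_order_eq], ?_⟩
    show ψ (g * (g⁻¹ * w * g⁻¹⁻¹) * g⁻¹) = _
    rw [show g * (g⁻¹ * w * g⁻¹⁻¹) * g⁻¹ = w by group, hf _ hw]; exact congrArg elat ew

end Cit

end CfsgLib.SuzType
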